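import Groth.Agent.RedSub.H643.LiftInto
import Groth.Agent.Sga3B.CentSmooth
import Groth.Agent.Sga3B.TorLift893

/-!
# The transporter of a torus into a smooth immersed subgroup is smooth

`G` smooth and separated over `S`, `i : H ⟶ G` a monomorphism of `S`-groups with `H` smooth over `S` (no
closedness, no affineness of `H`), `q : Q ⟶ G` a homomorphism from a torus.  If `{g : g q g⁻¹ ⊆ H}` is represented
by `e : E ⟶ G` then `E` is smooth over `S`.
-/

set_option autoImplicit false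
universe u
open CategoryTheory MonoidalCategory CartesianMonoidalCategory MonObj GrpObj AlgebraicGeometry Limits

namespace Groth.Agent.RedSub.H643.TranspSmooth
open Groth.Agent.Sga3B Groth.Agent.Sga3B.DSPts Groth.Agent.Sga3B.InfConj Groth.Agent.Sga3B.InfConjFam
  Groth.Agent.Sga3B.TorLift893 Groth.Agent.Sga3B.CentLift

variable {S : Scheme.{u}}

/-- The points of `G` conjugating `q` into `i`. -/
def transpPts {G H Q : Over S} [GrpObj G] (q : Q ⟶ G) (i : H ⟶ G) (T : Over S) : Set (T ⟶ G) :=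
  {g | ∀ (T' : Over S) (t : T' ⟶ T) (h : T' ⟶ Q), ∃ h' : T' ⟶ H, (t ≫ g) * (h ≫ q) * (t ≫ g)⁻¹ = h' ≫ i}

section univ

variable {C : Type u} [CommRing C] (x : Spec (CommRingCat.of C) ⟶ S) {M : Type} [AddCommGroup M]

/-- functoriality of `uObj` -/
noncomputable def uMap {E E' : Type u} [CommRing E] [CommRing E'] [Algebra C E] [Algebra C E'] (f : E →ₐ[C] E') :
    uObj x E' ⟶ uObj x E := (Over.map x).map (ptMap f)

lemma uMap_uPt {E E' : Type u} [CommRing E] [CommRing E'] [Algebra C E] [Algebra C E'] (f : E →ₐ[C] E')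
    (χ : Multiplicative M →* E) :
    uMap x f ≫ uPt x χ = uPt x ((f : E →* E').comp χ) := by
  unfold uPt
  refine (dsEquiv_naturality (uMap x f) _).trans ?_
  congr 1
  ext m
  exact gPt_naturality f (χ m)

lemma uMap_uStr {E E' : Type u} [CommRing E] [CommRing E'] [Algebra C E] [Algebra C E'] (f : E →ₐ[C] E') :
    uMap x f ≫ uStr x E = uStr x E' := (st_comp x (ptMap f)).symm

lemma uPt_mul {E : Type u} [CommRing E] [Algebra C E] (χ χ' : Multiplicative M →* E) :
    uPt x (χ * χ') = uPt x χ * uPt x χ' := by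
  unfold uPt
  refine Eq.trans ?_ (map_mul (dsEquiv (uObj x E) M) _ _)
  congr 1
  refine MonoidHom.ext fun m => ?_
  exact map_mul (gPt C E) _ _

/-- points of the base change with values in a `C`-algebra -/
noncomputable def uE (G : Over S) [GrpObj G] (E : Type u) [CommRing E] [Algebra C E] :
    (uObj x E ⟶ G) ≃* (pt C E ⟶ Red.bc x G) := bcEquiv x (pt C E) G

lemma ptMap_uE (G : Over S) [GrpObj G] {E E' : Type u} [CommRing E] [CommRing E'] [Algebra C E] [Algebra C E']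
    (f : E →ₐ[C] E') (g : uObj x E ⟶ G) : ptMap f ≫ uE x G E g = uE x G E' (uMap x f ≫ g) :=
  bcEquiv_naturality x G (ptMap f) g

lemma uE_comp {G H : Over S} [GrpObj G] [GrpObj H] (i : H ⟶ G) {E : Type u} [CommRing E] [Algebra C E]
    (g : uObj x E ⟶ H) : uE x H E g ≫ (Over.pullback x).map i = uE x G E (g ≫ i) :=
  bcEquiv_comp x (pt C E) g i

/-- the canonical point over `Over.mk x` -/
noncomputable def εC : Over.mk x ⟶ uObj x C := Over.homMk (𝟙 _) (by
  change 𝟙 _ ≫ Spec.map (CommRingCat.ofHom (algebraMap C C)) ≫ x = x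
  rw [Category.id_comp]
  have : Spec.map (CommRingCat.ofHom (algebraMap C C)) = 𝟙 _ := Spec.map_id _
  rw [this, Category.id_comp])

lemma uStr_εC (E : Type u) [CommRing E] [Algebra C E] : uStr x E ≫ εC x = uMap x (Algebra.ofId C E) := by
  ext1
  change Spec.map (CommRingCat.ofHom (algebraMap C E)) ≫ 𝟙 _ = _
  rw [Category.comp_id]
  rfl

end univ

section lift

variable {G H Q : Over S} [GrpObj G] [GrpObj H] [GrpObj Q] (q : Q ⟶ G) [IsMonHom q] (i : H ⟶ G) [IsMonHom i]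
  [Mono i] {B : Type u} [CommRing B] [IsLocalRing B] (I : Ideal B) (hI : I * I = ⊥)
  (x : Spec (CommRingCat.of B) ⟶ S) {M : Type} [AddCommGroup M]
  (hQ : Red.IsSplitTorusWith M (Red.bc x Q)) [IsSeparated G.hom] [Smooth H.hom]

include hI hQ

/-- A point of `G` which conjugates the torus `Q` into `H` modulo `I` can be corrected to a point conjugating
`Q` into `H`. -/
theorem transp_lift (g₁ : Over.mk x ⟶ G) (h₁ : redMap x I ≫ g₁ ∈ transpPts q i _) :
    ∃ w : Over.mk x ⟶ G, redMap x I ≫ w = 1 ∧ w⁻¹ * g₁ ∈ transpPts q i _ := by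
  obtain ⟨e, he, ψ, hψ1, hψ2⟩ := exists_isIsoFamily x hQ
  let Γ := Multiplicative M
  let E₁ := MonoidAlgebra B Γ
  -- the universal point of the torus and its conjugate
  let qu : uObj x E₁ ⟶ Q := lift (uPt x (MonoidAlgebra.of B Γ)) (uStr x E₁) ≫ e
  let a' : uObj x E₁ ⟶ G := (uStr x E₁ ≫ g₁) * (qu ≫ q) * (uStr x E₁ ≫ g₁)⁻¹
  have hmap : ∀ {E : Type u} [CommRing E] [Algebra B E] (f : E₁ →ₐ[B] E),
      uMap x f ≫ a' = (uStr x E ≫ g₁) *
        ((lift (uPt x ((f : E₁ →* E).comp (MonoidAlgebra.of B Γ))) (uStr x E) ≫ e) ≫ q) * (uStr x E ≫ g₁)⁻¹ := by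
    intro E _ _ f
    have h1 : uMap x f ≫ uStr x E₁ ≫ g₁ = uStr x E ≫ g₁ := by rw [← Category.assoc, uMap_uStr]
    have h2 : uMap x f ≫ qu ≫ q =
        (lift (uPt x ((f : E₁ →* E).comp (MonoidAlgebra.of B Γ))) (uStr x E) ≫ e) ≫ q := by
      simp only [qu]
      rw [← Category.assoc, ← Category.assoc, comp_lift, uMap_uPt, uMap_uStr]
    simp only [a', MonObj.comp_mul, GrpObj.comp_inv]
    rw [h1, h2]
  have ha : ptMap (dg B Γ) ≫ uE x G E₁ a' = (ptMap (inc₁ B Γ) ≫ uE x G E₁ a') * (ptMap (inc₂ B Γ) ≫ uE x G E₁ a') := by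
    rw [ptMap_uE, ptMap_uE, ptMap_uE, ← map_mul, hmap, hmap, hmap]
    have h3 : ((dg B Γ : E₁ →* MonoidAlgebra E₁ Γ).comp (MonoidAlgebra.of B Γ)) =
        ((inc₁ B Γ : E₁ →* MonoidAlgebra E₁ Γ).comp (MonoidAlgebra.of B Γ)) *
          ((inc₂ B Γ : E₁ →* MonoidAlgebra E₁ Γ).comp (MonoidAlgebra.of B Γ)) := by
      refine MonoidHom.ext fun m => ?_
      change dg B Γ (MonoidAlgebra.single m 1) = inc₁ B Γ (MonoidAlgebra.single m 1) * inc₂ B Γ (MonoidAlgebra.single m 1)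
      rw [dg_single, inc₁_single, inc₂_single, MonoidAlgebra.single_mul_single, _root_.one_mul, _root_.mul_one]
    rw [h3, uPt_mul, he, MonObj.mul_comp]
    refine congrArg _ ?_
    group
  -- the lift of the universal point modulo `I` to `H`
  let J : Ideal E₁ := extIdeal Γ I
  have hJ : J * J = ⊥ := extIdeal_mul B Γ I hI
  have hIJ : ∀ b ∈ I, algebraMap B E₁ b ∈ J := fun b hb => Ideal.mem_map_of_mem _ hb
  let x₁ : Spec (CommRingCat.of E₁) ⟶ S := Spec.map (CommRingCat.ofHom (algebraMap B E₁)) ≫ x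
  let r : Over.mk (Spec.map (CommRingCat.ofHom (Ideal.Quotient.mk J)) ≫ x₁) ⟶ uObj x E₁ := redMap x₁ J
  let t₀ : Over.mk (Spec.map (CommRingCat.ofHom (Ideal.Quotient.mk J)) ≫ x₁) ⟶
      Over.mk (Spec.map (CommRingCat.ofHom (Ideal.Quotient.mk I)) ≫ x) :=
    Over.homMk (Spec.map (CommRingCat.ofHom (Ideal.quotientMap J (algebraMap B E₁) hIJ))) (by
      simp only [Over.mk_hom, x₁, ← Category.assoc, ← Spec.map_comp, ← CommRingCat.ofHom_comp]
      congr 3)
  have ht₀ : t₀ ≫ redMap x I = r ≫ uStr x E₁ := by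
    ext1
    change Spec.map _ ≫ Spec.map _ = Spec.map _ ≫ Spec.map _
    rw [← Spec.map_comp, ← Spec.map_comp, ← CommRingCat.ofHom_comp, ← CommRingCat.ofHom_comp]
    congr 1
  obtain ⟨h₀, hh₀⟩ := h₁ _ t₀ (r ≫ qu)
  have hh₀' : h₀ ≫ i = r ≫ a' := by
    rw [← hh₀]
    have h5 : t₀ ≫ redMap x I ≫ g₁ = r ≫ uStr x E₁ ≫ g₁ :=
      (Category.assoc _ _ _).symm.trans ((congrArg (· ≫ g₁) ht₀).trans (Category.assoc _ _ _))
    simp only [a', MonObj.comp_mul, GrpObj.comp_inv, Category.assoc]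
    rw [h5]
  obtain ⟨l, hl⟩ : ∃ l : uObj x E₁ ⟶ H, r ≫ l = h₀ :=
    TorSmooth893.exists_lift_of_smooth H E₁ J hJ x₁ h₀
  have hl' : r ≫ l ≫ i = r ≫ a' :=
    (Category.assoc _ _ _).symm.trans ((congrArg (· ≫ i) hl).trans hh₀')
  have hf : ∀ (E : Type u) [CommRing E] [Algebra B E] (f : E₁ →ₐ[B] E), (∀ b ∈ I, algebraMap B E b = 0) →
      uMap x f ≫ l ≫ i = uMap x f ≫ a' := by
    intro E _ _ f hE
    have hfJ : ∀ b ∈ J, f b = 0 := by
      have : J ≤ RingHom.ker f := by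
        refine Ideal.map_le_iff_le_comap.mpr ?_
        intro b hb
        rw [Ideal.mem_comap, RingHom.mem_ker, AlgHom.commutes]
        exact hE b hb
      exact this
    let s : uObj x E ⟶ Over.mk (Spec.map (CommRingCat.ofHom (Ideal.Quotient.mk J)) ≫ x₁) :=
      Over.homMk (Spec.map (CommRingCat.ofHom (Ideal.Quotient.lift J (f : E₁ →+* E) hfJ))) (by
        change Spec.map _ ≫ Spec.map _ ≫ Spec.map _ ≫ x = Spec.map _ ≫ x
        simp only [← Category.assoc, ← Spec.map_comp, ← CommRingCat.ofHom_comp]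
        congr 3
        ext b
        exact f.commutes b)
    have hs : s ≫ r = uMap x f := by
      ext1
      change Spec.map _ ≫ Spec.map _ = Spec.map _
      rw [← Spec.map_comp, ← CommRingCat.ofHom_comp]
      congr 1
    rw [← hs, Category.assoc, hl', Category.assoc]
  have hsep : IsSeparated (Red.bc x G).hom := inferInstanceAs (IsSeparated (pullback.snd _ _))
  obtain ⟨D, j, hj, hj'⟩ := LocalLift.hasAffineUnitNhd_of_isLocalRing (Red.bc x G)
  obtain ⟨D', k, hk, hk'⟩ := LocalLift.hasAffineUnitNhd_of_isLocalRing (Red.bc x H)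
  obtain ⟨w, h', hw, hh'⟩ := LiftInto.liftInto Γ I hI ((Over.pullback x).map i) D j hj' D' k hk'
    (uE x G E₁ a') ha (uE x H E₁ l) (by
      intro E _ _ f hE
      rw [uE_comp, ptMap_uE, ptMap_uE, hf E f hE])
  let v : uObj x B ⟶ G := (uE x G B).symm w
  have hv : ∀ (E : Type u) [CommRing E] [Algebra B E],
      uE x G E (uMap x (Algebra.ofId B E) ≫ v) = ptMap (Algebra.ofId B E) ≫ w := by
    intro E _ _
    rw [← ptMap_uE, MulEquiv.apply_symm_apply]
  let l' : uObj x E₁ ⟶ H := (uE x H E₁).symm h'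
  have hl'' : l' ≫ i = (uMap x (Algebra.ofId B E₁) ≫ v)⁻¹ * a' * (uMap x (Algebra.ofId B E₁) ≫ v) := by
    apply (uE x G E₁).injective
    rw [← uE_comp, MulEquiv.apply_symm_apply, map_mul, map_mul, map_inv, hv, hh']
  refine ⟨εC x ≫ v, ?_, ?_⟩
  · let δ : Over.mk (Spec.map (CommRingCat.ofHom (Ideal.Quotient.mk I)) ≫ x) ⟶ uObj x (B ⧸ I) :=
      Over.homMk (𝟙 _) (Category.id_comp _)
    have h6 : redMap x I ≫ εC x = δ ≫ uMap x (Algebra.ofId B (B ⧸ I)) := by
      ext1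
      change Spec.map _ ≫ 𝟙 _ = 𝟙 _ ≫ Spec.map _
      rw [Category.comp_id, Category.id_comp]
      rfl
    have h7 : uMap x (Algebra.ofId B (B ⧸ I)) ≫ v = 1 := by
      apply (uE x G (B ⧸ I)).injective
      rw [hv, map_one]
      exact hw (B ⧸ I) (fun b hb => Ideal.Quotient.eq_zero_iff_mem.mpr hb)
    rw [← Category.assoc, h6, Category.assoc, h7, MonObj.comp_one]
  · intro T' t k₀
    obtain ⟨r', hr1, hr2⟩ := exists_eq_comp_uPt x (lift k₀ t ≫ ψ) t
    have hk₀ : k₀ = r' ≫ qu := by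
      simp only [qu]
      rw [← Category.assoc, comp_lift, hr1, hr2, hψ2]
    have h8 : t ≫ εC x ≫ v = r' ≫ uMap x (Algebra.ofId B E₁) ≫ v := by
      rw [← hr2, ← uStr_εC, Category.assoc, Category.assoc]
    have h9 : r' ≫ a' = (t ≫ g₁) * (k₀ ≫ q) * (t ≫ g₁)⁻¹ := by
      have h10 : r' ≫ uStr x E₁ ≫ g₁ = t ≫ g₁ := by rw [← Category.assoc, hr2]
      have h11 : r' ≫ qu ≫ q = k₀ ≫ q := by
        rw [hk₀]
        exact (Category.assoc _ _ _).symm
      change r' ≫ ((uStr x E₁ ≫ g₁) * (qu ≫ q) * (uStr x E₁ ≫ g₁)⁻¹) = _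
      rw [MonObj.comp_mul, MonObj.comp_mul, GrpObj.comp_inv, h10, h11]
    refine ⟨r' ≫ l', ?_⟩
    rw [Category.assoc, hl'']
    simp only [MonObj.comp_mul, GrpObj.comp_inv]
    rw [h8, h9]
    group

end lift

section main

variable {G H Q : Over S} [GrpObj G] [GrpObj H] [GrpObj Q]

/-- **The transporter of a torus into a smooth immersed subgroup is smooth.** -/
theorem smooth_transp (hQ : Red.IsTorus Q) (q : Q ⟶ G) [IsMonHom q] (i : H ⟶ G) [IsMonHom i] [Mono i]
    [Smooth G.hom] [IsSeparated G.hom] [Smooth H.hom] {E : Over S} (e : E ⟶ G) [Mono e]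
    [LocallyOfFinitePresentation e.left]
    (he : ∀ (T : Over S) (g : T ⟶ G), (∃ z : T ⟶ E, z ≫ e = g) ↔ g ∈ transpPts q i T) : Smooth E.hom := by
  obtain ⟨S', f, hf, hs, hc, h⟩ := hQ
  refine CentSmooth.smooth_of_lift e (fun T => transpPts q i T) he f hc fun s' => ?_
  obtain ⟨U, hU, r, hr⟩ := h s'
  refine ⟨U, hU, fun B _ _ I hI x β hx g₁ hg₁ => ?_⟩
  subst hx
  exact transp_lift q i I hI _ (CentSmooth.isSplit_bc _ β hr) g₁ hg₁

end main

end Groth.Agent.RedSub.H643.TranspSmooth
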