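import Groth.Agent.RedSub.H645.ConjEqIff
import Groth.Agent.FlatA.EtaleSections
import Groth.Agent.Sga3B.IsoFam

/-!
# Étale-local conjugacy from a smooth strict transporter
-/

set_option autoImplicit false
universe u
open CategoryTheory MonoidalCategory CartesianMonoidalCategory MonObj GrpObj AlgebraicGeometry

namespace Groth.Agent.RedSub.H643.ConjOf

open Groth.Agent.Sga3B Groth.Agent.Sga3B.Parab

/-- If the strict transporter of `i` into `i'` is represented by a smooth `S`-scheme and `i`, `i'` are conjugate on the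
geometric fibre at `s`, they are conjugate over an étale neighbourhood of `s`. -/
theorem exists_etale_conj {S : Scheme.{u}} {G H H' C : Over S} [GrpObj G] [GrpObj H] [GrpObj H'] (i : H ⟶ G)
    (i' : H' ⟶ G) (c : C ⟶ G) (hc : _root_.RedSub.IsStrictTransporter i i' c) (hC : Smooth C.hom) (s : S)
    (hconj : ∃ g : 𝟙_ _ ⟶ Red.geomFibre s G,
      _root_.RedSub.ConjEq ((Over.pullback (Red.geomPt s)).map i) ((Over.pullback (Red.geomPt s)).map i') g) :
    ∃ (U : Scheme.{u}) (f : U ⟶ S) (_ : Etale f), s ∈ Set.range f.base ∧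
      ∃ g : 𝟙_ _ ⟶ Red.bc f G, _root_.RedSub.ConjEq ((Over.pullback f).map i) ((Over.pullback f).map i') g := by
  obtain ⟨g, hg⟩ := hconj
  rw [H645.ConjEqIff.conjEq_bc_iff] at hg
  obtain ⟨z, -⟩ := (hc.2 _ _).2 hg
  have hs : s ∈ Set.range C.hom := by
    obtain ⟨p, hp⟩ : s ∈ Set.range (Red.geomPt s) := by rw [IsoFam.range_geomPt]; rfl
    refine ⟨z.left p, ?_⟩
    have h1 : z.left ≫ C.hom = Red.geomPt s := (Over.w z).trans (Category.id_comp _)
    exact (Scheme.Hom.comp_apply _ _ _).symm.trans ((congrArg (fun k : _ ⟶ S => k p) h1).trans hp)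
  obtain ⟨U, f, s', he, hs', h, hh⟩ := FlatA.EtaleSections.exists_section C.hom s hs
  refine ⟨U, f, he, ⟨s', hs'⟩, ?_⟩
  exact H645.ConjEqIff.exists_conjEq_bc f ((H645.ConjEqIff.conjEq_iff _).1
    ((hc.2 (Over.mk f) ((Over.homMk h hh : Over.mk f ⟶ C) ≫ c)).1 ⟨_, rfl⟩))

end Groth.Agent.RedSub.H643.ConjOf
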