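import Groth.Agent.Sga3B.InfConj

/-!
# Conjugating a homomorphism from `D(M)` into a smooth subgroup, base form

`I` a square-zero ideal of `C`, `i : H ⟶ G` a monomorphism of separated groups over `Spec C` whose unit sections
have affine open neighbourhoods, `a : Spec C[Γ] → G` the universal point of a homomorphism `D(M) → G` and
`h : Spec C[Γ] → H` a morphism which agrees with `a` modulo `I`.  Then there is `w ∈ G(C)`, trivial modulo `I`,
such that `w⁻¹ a w` factors through `H`.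
-/

set_option autoImplicit false
universe u
open CategoryTheory MonoidalCategory CartesianMonoidalCategory MonObj GrpObj AlgebraicGeometry Limits

namespace Groth.Agent.RedSub.H643.LiftInto
open Groth.Agent.Sga3B.DSPts Groth.Agent.Sga3B.InfConj

variable {C : Type u} [CommRing C]

/-- points of `H` with values in subrings are determined by their values in the big ring -/
lemma eq_of_comp_ptMap (H : Over (Spec (CommRingCat.of C))) [IsSeparated H.hom]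
    {E E' : Type u} [CommRing E] [CommRing E'] [Algebra C E] [Algebra C E'] (φ : E →ₐ[C] E')
    (hφ : Function.Injective φ) {x y : pt C E ⟶ H} (h : ptMap φ ≫ x = ptMap φ ≫ y) : x = y := by
  ext1
  refine ext_of_ker_eq_bot H.hom ((Over.w _).trans (Over.w _).symm) (ptMap φ).left (ker_specMap _ hφ) ?_
  rw [← Over.comp_left, ← Over.comp_left, h]

section

variable {Γ : Type} [CommGroup Γ] (I : Ideal C)

/-- `C + J ⊆ R + J` -/
noncomputable def inclA : avgSub (C := C) (extIdeal Γ (extIdeal Γ I)) →ₐ[C] A₂ (Γ := Γ) I where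
  toFun x := ⟨x.1, by
    obtain ⟨c, hc⟩ := x.2
    refine ⟨algebraMap C _ c, ?_⟩
    rwa [← IsScalarTower.algebraMap_apply]⟩
  map_one' := rfl
  map_mul' _ _ := rfl
  map_zero' := rfl
  map_add' _ _ := rfl
  commutes' _ := rfl

lemma valA₂_inclA : (valA₂ (Γ := Γ) I).comp (inclA I) = (avgSub (C := C) (extIdeal Γ (extIdeal Γ I))).val := rfl

variable (Γ) in
/-- A point of `H` over `C[Γ × Γ]`, trivial modulo `I`, comes from `C[Γ] + I[Γ × Γ]`; the average is trivial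
modulo `I`. -/
lemma exists_lift₂ (hI : I * I = ⊥) (H : Over (Spec (CommRingCat.of C))) [GrpObj H] (D : CommRingCat.{u})
    (j : Spec D ⟶ H.left) [IsOpenImmersion j] (hj : Set.range η[H].left ⊆ Set.range j)
    (k : pt C (MonoidAlgebra (MonoidAlgebra C Γ) Γ) ⟶ H)
    (hk : ∀ (E : Type u) [CommRing E] [Algebra C E] (f : MonoidAlgebra (MonoidAlgebra C Γ) Γ →ₐ[C] E),
      (∀ i ∈ I, algebraMap C E i = 0) → ptMap f ≫ k = 1) :
    ∃ kB : pt C (A₂ (Γ := Γ) I) ⟶ H, pVal₂ Γ I ≫ kB = k := by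
  let I₂ : Ideal (MonoidAlgebra (MonoidAlgebra C Γ) Γ) := extIdeal Γ (extIdeal Γ I)
  have hI₂ : I₂ * I₂ = ⊥ := extIdeal_mul _ Γ _ (extIdeal_mul C Γ I hI)
  have hc : ptMap (E := MonoidAlgebra (MonoidAlgebra C Γ) Γ) (E' := MonoidAlgebra (MonoidAlgebra C Γ) Γ ⧸ I₂)
      (Ideal.Quotient.mkₐ C I₂) ≫ k = 1 := by
    apply hk
    intro i hi
    rw [IsScalarTower.algebraMap_apply C (MonoidAlgebra (MonoidAlgebra C Γ) Γ)]
    refine Ideal.Quotient.eq_zero_iff_mem.mpr ?_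
    rw [IsScalarTower.algebraMap_apply C (MonoidAlgebra C Γ)]
    exact Ideal.mem_map_of_mem _ (Ideal.mem_map_of_mem _ hi)
  obtain ⟨kA, hkA, -⟩ := exists_lift H D j hj I₂ hI₂ k hc (avgSub (C := C) I₂) (fun c e h => ⟨c, h⟩)
  refine ⟨@CategoryStruct.comp _ _ (pt C (A₂ (Γ := Γ) I)) (pt C (avgSub (C := C) I₂)) H
    (ptMap (inclA (Γ := Γ) I)) kA, ?_⟩
  rw [← hkA]
  unfold pVal₂
  rw [ptMap_comp_assoc]
  rfl

end

/-- **LiftInto**, base form. -/
theorem liftInto (Γ : Type) [CommGroup Γ] (I : Ideal C) (hI : I * I = ⊥) {G H : Over (Spec (CommRingCat.of C))}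
    [GrpObj G] [GrpObj H] [IsSeparated G.hom] (i : H ⟶ G) [IsMonHom i] [Mono i]
    (D : CommRingCat.{u}) (j : Spec D ⟶ G.left) [IsOpenImmersion j] (hj : Set.range η[G].left ⊆ Set.range j)
    (D' : CommRingCat.{u}) (j' : Spec D' ⟶ H.left) [IsOpenImmersion j'] (hj' : Set.range η[H].left ⊆ Set.range j')
    (a : pt C (MonoidAlgebra C Γ) ⟶ G)
    (ha : ptMap (dg C Γ) ≫ a = (ptMap (inc₁ C Γ) ≫ a) * (ptMap (inc₂ C Γ) ≫ a))
    (h : pt C (MonoidAlgebra C Γ) ⟶ H)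
    (hh : ∀ (E : Type u) [CommRing E] [Algebra C E] (f : MonoidAlgebra C Γ →ₐ[C] E),
      (∀ i ∈ I, algebraMap C E i = 0) → ptMap f ≫ h ≫ i = ptMap f ≫ a) :
    ∃ (w : pt C C ⟶ G) (h' : pt C (MonoidAlgebra C Γ) ⟶ H),
      (∀ (E : Type u) [CommRing E] [Algebra C E], (∀ i ∈ I, algebraMap C E i = 0) →
        ptMap (Algebra.ofId C E) ≫ w = 1) ∧
      h' ≫ i = (ptMap (Algebra.ofId C (MonoidAlgebra C Γ)) ≫ w)⁻¹ * a *
        (ptMap (Algebra.ofId C (MonoidAlgebra C Γ)) ≫ w) := by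
  let c : pt C (MonoidAlgebra C Γ) ⟶ G := a * (h ≫ i)⁻¹
  have hc : ptMap (E := MonoidAlgebra C Γ) (E' := MonoidAlgebra C Γ ⧸ extIdeal Γ I)
      (Ideal.Quotient.mkₐ C (extIdeal Γ I)) ≫ c = 1 := by
    have h1 := hh (MonoidAlgebra C Γ ⧸ extIdeal Γ I) (Ideal.Quotient.mkₐ C (extIdeal Γ I)) (fun i hi => by
      rw [IsScalarTower.algebraMap_apply C (MonoidAlgebra C Γ)]
      exact Ideal.Quotient.eq_zero_iff_mem.mpr (Ideal.mem_map_of_mem _ hi))
    simp only [c, comp_mul, comp_inv]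
    rw [h1, mul_inv_cancel]
  obtain ⟨cA, hcA, hcA'⟩ := exists_lift G D j hj (extIdeal Γ I) (extIdeal_mul C Γ I hI) c hc (A₁ I)
    (fun c e h => ⟨c, h⟩)
  replace hcA : pVal₁ Γ I ≫ cA = c := hcA
  let k : pt C (MonoidAlgebra (MonoidAlgebra C Γ) Γ) ⟶ H :=
    (ptMap (inc₁ C Γ) ≫ h) * (ptMap (inc₂ C Γ) ≫ h) * (ptMap (dg C Γ) ≫ h)⁻¹
  have hk : ∀ (E : Type u) [CommRing E] [Algebra C E] (f : MonoidAlgebra (MonoidAlgebra C Γ) Γ →ₐ[C] E),
      (∀ i ∈ I, algebraMap C E i = 0) → ptMap f ≫ k = 1 := by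
    intro E _ _ f hE
    rw [← cancel_mono i, MonObj.one_comp]
    simp only [k, MonObj.mul_comp, GrpObj.inv_comp, comp_mul, comp_inv, Category.assoc]
    rw [ptMap_comp_assoc, ptMap_comp_assoc, ptMap_comp_assoc, hh E _ hE, hh E _ hE, hh E _ hE,
      ← ptMap_comp_assoc, ← ptMap_comp_assoc, ← ptMap_comp_assoc, ha, comp_mul, mul_inv_cancel]
  obtain ⟨kB, hkB⟩ := exists_lift₂ Γ I hI H D' j' hj' k hk
  have key : pDgA Γ I ≫ cA = (pInc₁A Γ I ≫ a) * (pInc₂A Γ I ≫ cA) * (pInc₁A Γ I ≫ h ≫ i)⁻¹ * (kB ≫ i) := by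
    refine eq_of_comp_ptMap G (valA₂ (Γ := Γ) I) Subtype.val_injective ?_
    change pVal₂ Γ I ≫ _ = pVal₂ Γ I ≫ _
    simp only [comp_mul, comp_inv, pVal₂_pDgA_assoc, pVal₂_pInc₂A_assoc, pVal₂_pInc₁A_assoc, hcA]
    have h1 : pVal₂ Γ I ≫ kB ≫ i = k ≫ i := by rw [← Category.assoc, hkB]
    rw [h1]
    simp only [k, c, MonObj.mul_comp, GrpObj.inv_comp, comp_mul, comp_inv, Category.assoc, ha]
    group
  have h5 := congr(pAvg₂ Γ I hI ≫ $key)
  simp only [comp_mul, comp_inv, pAvg₂_pDgA_assoc, pAvg₂_pInc₂A_assoc, pAvg₂_pInc₁A_assoc] at h5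
  refine ⟨pAvg Γ I hI ≫ cA, (pAvg₂ Γ I hI ≫ kB)⁻¹ * h, ?_, ?_⟩
  · intro E _ _ hE
    have h8 : ptMap (Algebra.ofId C E) ≫ pAvg Γ I hI =
      ptMap (E := A₁ (Γ := Γ) I) (E' := E) ((Algebra.ofId C E).comp (avg C Γ I hI)) := by
      rw [pAvg, ptMap_comp]
    rw [← Category.assoc, h8]
    apply hcA'
    intro r e he
    have h9 := hE _ (avg_sub_mem I hI e r he)
    rw [map_sub, sub_eq_zero] at h9
    exact h9
  · rw [MonObj.mul_comp, GrpObj.inv_comp, Category.assoc]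
    generalize ptMap (Algebra.ofId C (MonoidAlgebra C Γ)) ≫ pAvg Γ I hI ≫ cA = W at *
    generalize pAvg₂ Γ I hI ≫ kB ≫ i = K at *
    generalize h ≫ i = X at *
    -- h5 : W = a * W * X⁻¹ * K
    have h6 : K = (a * W * X⁻¹)⁻¹ * W := by
      rw [eq_inv_mul_iff_mul_eq]
      exact h5.symm
    rw [h6]
    group

end Groth.Agent.RedSub.H643.LiftInto
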