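import Groth.Agent.Sga3B.InfConj

/-!
# Twisted functoriality of the averaging homomorphism `R + J[Γ] → R`

`tw f θ : R[Γ] → R'[Γ]`, `r γ ↦ f(r) θ(γ) γ`; it maps `R + J[Γ]` into `R' + J'[Γ]` and is compatible with
averaging.
-/

set_option autoImplicit false
universe u

namespace Groth.Agent.RedSub.H643.TwAvg
open Groth.Agent.Sga3B.InfConj

variable {C : Type u} [CommRing C] {R R' : Type u} [CommRing R] [CommRing R'] [Algebra C R] [Algebra C R']
  {Γ : Type} [CommGroup Γ]

/-- the twisted extension `∑ r_γ γ ↦ ∑ f(r_γ) θ(γ) γ` -/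
noncomputable def tw (f : R →ₐ[C] R') (θ : Γ →* R') : MonoidAlgebra R Γ →ₐ[C] MonoidAlgebra R' Γ :=
  { MonoidAlgebra.liftNCRingHom ((algebraMap R' (MonoidAlgebra R' Γ)).comp (f : R →+* R'))
      ({ toFun := fun γ => MonoidAlgebra.single γ (θ γ)
         map_one' := by simp [MonoidAlgebra.one_def]
         map_mul' := by intro x y; simp [MonoidAlgebra.single_mul_single] } : Γ →* MonoidAlgebra R' Γ)
      (fun _ _ => .all _ _) with
    commutes' := fun c => by
      change MonoidAlgebra.liftNCRingHom _ _ _ (MonoidAlgebra.single 1 (algebraMap C R c)) =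
        MonoidAlgebra.single 1 (algebraMap C R' c)
      rw [MonoidAlgebra.liftNCRingHom_single]
      simp }

lemma tw_single (f : R →ₐ[C] R') (θ : Γ →* R') (γ : Γ) (r : R) :
    tw f θ (MonoidAlgebra.single γ r) = MonoidAlgebra.single γ (f r * θ γ) := by
  refine (MonoidAlgebra.liftNCRingHom_single _ _ (fun _ _ => .all _ _) γ r).trans ?_
  change (MonoidAlgebra.single 1 (f r) * MonoidAlgebra.single γ (θ γ) : MonoidAlgebra R' Γ) = _
  rw [MonoidAlgebra.single_mul_single, one_mul]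

lemma tw_algebraMap (f : R →ₐ[C] R') (θ : Γ →* R') (r : R) :
    tw f θ (algebraMap R _ r) = algebraMap R' _ (f r) := by
  change tw f θ (MonoidAlgebra.single 1 r) = MonoidAlgebra.single 1 (f r)
  rw [tw_single, map_one, mul_one]

open Classical in
lemma coeffOne_tw (f : R →ₐ[C] R') (θ : Γ →* R') (a : MonoidAlgebra R Γ) :
    coeffOne R' Γ (tw f θ a) = f (coeffOne R Γ a) := by
  induction a using MonoidAlgebra.induction_linear with
  | zero => simp
  | add x y hx hy => simp only [map_add, hx, hy]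
  | single δ c =>
    rw [tw_single, coeffOne_single, coeffOne_single]
    split_ifs with h
    · subst h; simp
    · simp

lemma tw_mem (f : R →ₐ[C] R') (θ : Γ →* R') {J : Ideal R} {J' : Ideal R'} (hf : ∀ r ∈ J, f r ∈ J')
    {a : MonoidAlgebra R Γ} (ha : a ∈ extIdeal Γ J) : tw f θ a ∈ extIdeal Γ J' := by
  have h : extIdeal Γ J ≤ (extIdeal Γ J').comap (tw f θ) := by
    refine Ideal.map_le_iff_le_comap.mpr ?_
    intro r hr
    rw [Ideal.mem_comap, Ideal.mem_comap, tw_algebraMap]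
    exact Ideal.mem_map_of_mem _ (hf r hr)
  exact h ha

/-- the subring `R + J[Γ]` of `R[Γ]` -/
noncomputable abbrev BS (Γ : Type) [CommGroup Γ] (J : Ideal R) : Subalgebra R (MonoidAlgebra R Γ) :=
  avgSub (C := R) (extIdeal Γ J)

/-- `tw` on the subrings -/
noncomputable def twB (f : R →ₐ[C] R') (θ : Γ →* R') {J : Ideal R} {J' : Ideal R'} (hf : ∀ r ∈ J, f r ∈ J') :
    BS Γ J →ₐ[C] BS Γ J' where
  toFun x := ⟨tw f θ x.1, by
    obtain ⟨c, hc⟩ := x.2
    refine ⟨f c, ?_⟩
    have := tw_mem f θ hf hc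
    rwa [map_sub, tw_algebraMap] at this⟩
  map_one' := by ext1; simp
  map_mul' x y := by ext1; simp
  map_zero' := by ext1; simp
  map_add' x y := by ext1; simp
  commutes' r := by
    ext1
    exact (tw f θ).commutes r

/-- averaging -/
noncomputable def avB (C : Type u) [CommRing C] [Algebra C R] (J : Ideal R) (hJ : J * J = ⊥) : BS Γ J →ₐ[C] R :=
  (avg R Γ J hJ).restrictScalars C

/-- the inclusion of the constants -/
noncomputable def cst (C : Type u) [CommRing C] [Algebra C R] (J : Ideal R) : R →ₐ[C] BS Γ J :=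
  IsScalarTower.toAlgHom C R (BS Γ J)

/-- the inclusion in `R[Γ]` -/
noncomputable def valB (C : Type u) [CommRing C] [Algebra C R] (J : Ideal R) : BS Γ J →ₐ[C] MonoidAlgebra R Γ :=
  (BS Γ J).val.restrictScalars C

lemma avB_twB (f : R →ₐ[C] R') (θ : Γ →* R') {J : Ideal R} {J' : Ideal R'} (hf : ∀ r ∈ J, f r ∈ J')
    (hJ : J * J = ⊥) (hJ' : J' * J' = ⊥) :
    (avB C J' hJ').comp (twB f θ hf) = f.comp (avB (Γ := Γ) C J hJ) := by
  apply AlgHom.ext
  intro x
  exact coeffOne_tw f θ x.1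

lemma avB_cst (J : Ideal R) (hJ : J * J = ⊥) : (avB (Γ := Γ) C J hJ).comp (cst C J) = AlgHom.id C R := by
  apply AlgHom.ext
  intro x
  change coeffOne _ Γ (algebraMap R (MonoidAlgebra R Γ) x) = x
  rw [Algebra.algebraMap_eq_smul_one, map_smul, coeffOne_one, smul_eq_mul, _root_.mul_one]

lemma valB_twB (f : R →ₐ[C] R') (θ : Γ →* R') {J : Ideal R} {J' : Ideal R'} (hf : ∀ r ∈ J, f r ∈ J') :
    (valB C J').comp (twB f θ hf) = (tw f θ).comp (valB (Γ := Γ) C J) := rfl

lemma valB_cst (J : Ideal R) :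
    (valB (Γ := Γ) C J).comp (cst C J) = IsScalarTower.toAlgHom C R (MonoidAlgebra R Γ) := rfl

lemma valB_injective (J : Ideal R) : Function.Injective (valB (Γ := Γ) C J) := Subtype.val_injective

lemma avB_sub_mem (J : Ideal R) (hJ : J * J = ⊥) (x : BS Γ J) (r : R)
    (h : x.1 - algebraMap R (MonoidAlgebra R Γ) r ∈ extIdeal Γ J) : avB C J hJ x - r ∈ J :=
  avg_sub_mem J hJ x r h

end Groth.Agent.RedSub.H643.TwAvg
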