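import Groth.Agent.RedSub.H643.TranspSmooth
import Groth.Agent.RedSub.H641.StrictTr
import Groth.Agent.Sga3B.RG.BrHc2
import Groth.Agent.Sga3B.SplitFin885
import Groth.Agent.Sga3B.SplitBc264b
import Groth.Agent.Sga3B.SplitIso848
import Groth.Agent.FlatA.EtaleSections
import Groth.Agent.Agf.H582.ConjDict
import Groth.Agent.Sga3B.TorusIrr
import Groth.Agent.RedSub.H648.TypeR
import Groth.Agent.S2958

/-!
# Subgroups of type (R) contain, étale-locally, the torus of a splitting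

`G` reductive over `S`, `i : H ⟶ G` of type (R) (`RedSub.IsTypeR`), `s : S`: there is an étale `f : U ⟶ S` through `s`
and a splitting `D` of `G_U` whose torus is contained in `H_U` (`exists_splitRed_into`).
-/

set_option autoImplicit false
universe u
open CategoryTheory MonoidalCategory CartesianMonoidalCategory MonObj GrpObj AlgebraicGeometry Limits

namespace Groth.Agent.RedSub.H643.TypeRTorus
open Groth.Agent.Sga3B Groth.Agent.Sga3B.DSPts Groth.Agent.RedSub.H643.TranspSmooth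

variable {S S' : Scheme.{u}}

section bc

variable (f : S' ⟶ S) {G H Q : Over S} [GrpObj G]

/-- Compatibility with base change. -/
theorem transpPts_bc (q : Q ⟶ G) (i : H ⟶ G) {X' : Over S'} (x' : X' ⟶ Red.bc f G) :
    x' ∈ transpPts ((Over.pullback f).map q) ((Over.pullback f).map i) X' ↔
      (bcEquiv f X' G).symm x' ∈ transpPts q i ((Over.map f).obj X') := by
  have hq : ∀ {T : Over S} (i : T ⟶ G) (Y' : Over S') (q : (Over.map f).obj Y' ⟶ T),
      (Over.mapPullbackAdj f).homEquiv Y' T q ≫ (Over.pullback f).map i = bcEquiv f Y' G (q ≫ i) := by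
    intro T i Y' q
    exact ((Over.mapPullbackAdj f).homEquiv_naturality_right _ _).symm
  constructor
  · intro h Y y
    let Y' : Over S' := Over.mk (y.left ≫ X'.hom)
    let ε : (Over.map f).obj Y' ≅ Y := Over.isoMk (Iso.refl _) (by
      have := Over.w y
      simp only [Over.map_obj_hom] at this
      simp [Y', this])
    let y' : Y' ⟶ X' := Over.homMk y.left
    have h1 : (Over.map f).map y' = ε.hom ≫ y := by
      ext1
      exact (Category.id_comp _).symm
    have h4 : y' ≫ x' = bcEquiv f Y' G (ε.hom ≫ y ≫ (bcEquiv f X' G).symm x') := by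
      rw [← Category.assoc, ← h1, ← bcEquiv_naturality]
      simp
    intro a
    obtain ⟨r, hr⟩ := h Y' y' ((Over.mapPullbackAdj f).homEquiv Y' Q (ε.hom ≫ a))
    refine ⟨ε.inv ≫ ((Over.mapPullbackAdj f).homEquiv Y' H).symm r, ?_⟩
    have hr' : r = (Over.mapPullbackAdj f).homEquiv Y' H (((Over.mapPullbackAdj f).homEquiv Y' H).symm r) :=
      (Equiv.apply_symm_apply _ _).symm
    rw [hr', hq, hq, h4, ← map_mul, ← map_inv, ← map_mul] at hr
    have h5 := (bcEquiv f Y' G).injective hr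
    rw [← cancel_epi ε.hom]
    simpa only [comp_mul, comp_inv, Category.assoc, Iso.hom_inv_id_assoc] using h5
  · intro h Y' y' r
    obtain ⟨a, rfl⟩ := ((Over.mapPullbackAdj f).homEquiv Y' Q).surjective r
    obtain ⟨b, hb⟩ := h _ ((Over.map f).map y') a
    refine ⟨(Over.mapPullbackAdj f).homEquiv Y' H b, ?_⟩
    rw [hq, hq, ← hb]
    simp only [map_mul, map_inv]
    rw [← bcEquiv_naturality]
    simp

lemma mem_comp (q : Q ⟶ G) (i : H ⟶ G) {T T' : Over S} {g : T ⟶ G} (h : g ∈ transpPts q i T) (z : T' ⟶ T) :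
    z ≫ g ∈ transpPts q i T' := by
  intro Y y a
  obtain ⟨b, hb⟩ := h Y (y ≫ z) a
  exact ⟨b, by simpa only [Category.assoc] using hb⟩

/-- the identity of the base as a point over `f` -/
noncomputable def idPt (f : S' ⟶ S) : (Over.map f).obj (𝟙_ (Over S')) ≅ Over.mk f :=
  Over.isoMk (Iso.refl _) (by
    change 𝟙 _ ≫ f = 𝟙 _ ≫ f
    rfl)

/-- sections of the base change and points over `f` -/
noncomputable def sec (g : Over.mk f ⟶ G) : 𝟙_ (Over S') ⟶ Red.bc f G :=
  bcEquiv f (𝟙_ (Over S')) G ((idPt f).hom ≫ g)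

lemma sec_mem (q : Q ⟶ G) (i : H ⟶ G) (g : Over.mk f ⟶ G) :
    sec f g ∈ transpPts ((Over.pullback f).map q) ((Over.pullback f).map i) (𝟙_ (Over S')) ↔
      g ∈ transpPts q i (Over.mk f) := by
  rw [transpPts_bc, sec, MulEquiv.symm_apply_apply]
  refine ⟨fun h => ?_, fun h => mem_comp q i h _⟩
  have := mem_comp q i h (idPt f).inv
  rwa [Iso.inv_hom_id_assoc] at this

lemma sec_surjective : Function.Surjective (sec (G := G) f) := by
  intro g
  refine ⟨(idPt f).inv ≫ (bcEquiv f (𝟙_ (Over S')) G).symm g, ?_⟩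
  rw [sec, Iso.hom_inv_id_assoc, MulEquiv.apply_symm_apply]

end bc

section point

variable {G H Q : Over S} [GrpObj G] [GrpObj H] [GrpObj Q]

/-- The transporter of a torus into a smooth immersed subgroup is a smooth closed subscheme. -/
theorem exists_smooth_transp (hQ : Red.IsTorus Q) (q : Q ⟶ G) [IsMonHom q] (i : H ⟶ G) [IsMonHom i] [Mono i]
    [Smooth G.hom] [IsSeparated G.hom] [Smooth H.hom] :
    ∃ (E : Over S) (e : E ⟶ G), IsClosedImmersion e.left ∧ LocallyOfFinitePresentation e.left ∧ Smooth E.hom ∧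
      ∀ (T : Over S) (g : T ⟶ G), (∃ z : T ⟶ E, z ≫ e = g) ↔ g ∈ transpPts q i T := by
  have := TorusAlgClosed.smooth_of_isTorus hQ
  have := TorusIrr.geometricallyIrreducible_of_isTorus hQ
  obtain ⟨E, e, h1, h2, h3⟩ := H641.StrictTr.exists_transp q i
  have : Mono e := Over.mono_of_mono_left e
  exact ⟨E, e, h1, h2, smooth_transp hQ q i e h3, h3⟩

/-- A point of the transporter over a field-valued point extends to an étale neighbourhood. -/
theorem exists_etale_of_point (hQ : Red.IsTorus Q) (q : Q ⟶ G) [IsMonHom q] (i : H ⟶ G) [IsMonHom i] [Mono i]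
    [Smooth G.hom] [IsSeparated G.hom] [Smooth H.hom] {K : Type u} [Field K]
    (x : Spec (CommRingCat.of K) ⟶ S) (g₀ : 𝟙_ _ ⟶ Red.bc x G)
    (h₀ : g₀ ∈ transpPts ((Over.pullback x).map q) ((Over.pullback x).map i) (𝟙_ _)) (s : S)
    (hs : s ∈ Set.range x) :
    ∃ (U : Scheme.{u}) (f : U ⟶ S) (_ : Etale f) (_ : s ∈ Set.range f) (g : 𝟙_ _ ⟶ Red.bc f G),
      g ∈ transpPts ((Over.pullback f).map q) ((Over.pullback f).map i) (𝟙_ _) := by
  obtain ⟨g₁, rfl⟩ := sec_surjective (G := G) x g₀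
  rw [sec_mem] at h₀
  obtain ⟨Z, z, -, -, hZ, hz⟩ := exists_smooth_transp hQ q i
  obtain ⟨c, hc⟩ := (hz _ _).mpr h₀
  obtain ⟨p, rfl⟩ := hs
  have hrange : x p ∈ Set.range Z.hom := by
    refine ⟨c.left p, ?_⟩
    have h1 : c.left ≫ Z.hom = x := Over.w c
    rw [← Scheme.Hom.comp_apply, h1]
  obtain ⟨U, f, s', he, hs', h, hh⟩ := FlatA.EtaleSections.exists_section Z.hom (x p) hrange
  refine ⟨U, f, he, ⟨s', hs'⟩, sec f ((Over.homMk h hh : Over.mk f ⟶ Z) ≫ z), ?_⟩
  rw [sec_mem]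
  exact (hz _ _).mp ⟨Over.homMk h hh, rfl⟩

end point

section inner

variable {G H : Over S} [GrpObj G]

/-- The inner automorphism of a section as an isomorphism of group schemes. -/
noncomputable def inn (g : 𝟙_ _ ⟶ G) : Grp.mk G ≅ Grp.mk G :=
  Grp.mkIso' (Agf.H582.ConjDict.conjIso g)

lemma comp_inn {X : Over S} (g : 𝟙_ _ ⟶ G) (x : X ⟶ G) :
    x ≫ (RedIso.und (inn g)).hom = (toUnit X ≫ g) * x * (toUnit X ≫ g)⁻¹ :=
  Agf.H582.ConjDict.comp_conjIso_hom g x

/-- A splitting conjugated by a point conjugating its torus into `H`. -/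
theorem exists_conj_into (D : Red.SplitRed G) (i : H ⟶ G) (g : 𝟙_ _ ⟶ G)
    (hg : g ∈ transpPts D.i i (𝟙_ _)) :
    ∃ (t : (SplitIso848.splitOfIso (inn g) D).T ⟶ H), t ≫ i = (SplitIso848.splitOfIso (inn g) D).i := by
  obtain ⟨h', hh'⟩ := hg D.T (toUnit _) (𝟙 D.T)
  refine ⟨h', ?_⟩
  refine hh'.symm.trans ?_
  rw [Category.id_comp]
  exact (comp_inn g D.i).symm

end inner

section main

variable {G H : Over S} [GrpObj G] [GrpObj H]

/-- The field case: over the geometric point at `s` the torus of a splitting is conjugate into `H`. -/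
theorem exists_geom (hG : Red.IsReductive G) (i : H ⟶ G) (hH : RedSub.IsTypeR i) {T : Over S} [GrpObj T] (j : T ⟶ G)
    (hj : Red.IsMaximalTorus j) (s : S) :
    ∃ g : 𝟙_ _ ⟶ Red.geomFibre s G,
      g ∈ transpPts ((Over.pullback (Red.geomPt s)).map j) ((Over.pullback (Red.geomPt s)).map i) (𝟙_ _) := by
  obtain ⟨T', _, t, ht, hT'⟩ := hH.2.2.2.2 s
  obtain ⟨h1, h2, h3, -⟩ := hG.2.2 s
  obtain ⟨c, f, hf, hc⟩ := RG.BrHc2.exists_conj_iso (Red.geomFibre s G) _ _ (AlgBc.isMaximalTorus_bc (Red.geomPt s) hj) hT'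
  refine ⟨c, fun X x a => ⟨a ≫ f.hom ≫ t, ?_⟩⟩
  have h4 := congrArg (fun z => a ≫ z) hc
  simp only [RG.BrHc.comp_conjHom] at h4
  rw [Category.assoc, Category.assoc, h4, toUnit_unique x (toUnit X)]

/-- **Subgroups of type (R) contain, étale-locally, the torus of a splitting.** -/
theorem exists_splitRed_into (hG : Red.IsReductive G) (i : H ⟶ G) (hH : RedSub.IsTypeR i) (s : S) :
    ∃ (U : Scheme.{u}) (f : U ⟶ S), Etale f ∧ s ∈ Set.range f.base ∧
      ∃ (D : Red.SplitRed (Red.bc f G)) (t : D.T ⟶ Red.bc f H), t ≫ (Over.pullback f).map i = D.i := by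
  obtain ⟨U₁, f₁, hf₁, ⟨s₁, rfl⟩, ⟨D₁⟩⟩ := S2958.result G hG s
  have hi₁ := H648.TypeR.isTypeR_bc f₁ hG hH
  obtain ⟨c, hc⟩ := exists_geom D₁.reductive _ hi₁ D₁.i D₁.maximalTorus s₁
  have hGa := hG.1
  have hGs := hG.2.1
  have hHs := hH.2.1
  have hHm := hH.1.1
  have hHi := hH.1.2
  have m1 : Mono i := Over.mono_of_mono_left i
  have k1 : Smooth (Red.bc f₁ G).hom := inferInstanceAs (Smooth (pullback.snd _ _))
  have k2 : IsSeparated (Red.bc f₁ G).hom := inferInstanceAs (IsSeparated (pullback.snd G.hom f₁))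
  have k3 : Smooth (Red.bc f₁ H).hom := inferInstanceAs (Smooth (pullback.snd _ _))
  have k4 : IsMonHom D₁.i := D₁.maximalTorus.1
  have k5 : Mono ((Over.pullback f₁).map i) := inferInstance
  obtain ⟨U₂, f₂, hf₂, ⟨s₂, hs₂⟩, g, hg⟩ := exists_etale_of_point D₁.maximalTorus.2.2.1 D₁.i ((Over.pullback f₁).map i)
    (Red.geomPt s₁) c hc s₁ (by rw [IsoFam.range_geomPt]; rfl)
  obtain ⟨t, ht⟩ := exists_conj_into (SplitBc264.splitBc f₂ D₁) ((Over.pullback f₂).map ((Over.pullback f₁).map i)) g hg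
  refine ⟨U₂, f₂ ≫ f₁, inferInstance, ⟨s₂, ?_⟩,
    SplitIso848.splitOfIso (BcIso.bcCompIso f₂ f₁ G).symm (SplitIso848.splitOfIso (inn g) (SplitBc264.splitBc f₂ D₁)),
    t ≫ (RedIso.und (BcIso.bcCompIso f₂ f₁ H)).inv, ?_⟩
  · rw [← hs₂]
    exact Scheme.Hom.comp_apply _ _ _
  · have h1 : (RedIso.und (BcIso.bcCompIso f₂ f₁ H)).inv ≫ (Over.pullback (f₂ ≫ f₁)).map i =
        (Over.pullback f₂).map ((Over.pullback f₁).map i) ≫ (RedIso.und (BcIso.bcCompIso f₂ f₁ G)).inv := by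
      rw [Iso.inv_comp_eq, ← Category.assoc, Iso.eq_comp_inv]
      exact SplitGlue904.bcCompIso_naturality f₂ f₁ i
    have h2 : (SplitIso848.splitOfIso (BcIso.bcCompIso f₂ f₁ G).symm (SplitIso848.splitOfIso (inn g)
        (SplitBc264.splitBc f₂ D₁))).i = (SplitIso848.splitOfIso (inn g)
        (SplitBc264.splitBc f₂ D₁)).i ≫ (RedIso.und (BcIso.bcCompIso f₂ f₁ G)).inv := rfl
    refine Eq.trans ?_ h2.symm
    rw [← ht]
    refine (Category.assoc _ _ _).trans ?_
    rw [h1]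
    exact (Category.assoc _ _ _).symm

end main

end Groth.Agent.RedSub.H643.TypeRTorus
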